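import Cfsg.Agent.Lib.ExtPrimAffine.Core

/-!
No non-trivial abelian normal subgroup.
-/

set_option autoImplicit false
set_option linter.unusedSectionVars false
set_option linter.style.haveILetI false

namespace Cfsg.Agent.ExtPrimAffine

open Subgroup
open scoped commutatorElement

variable {H : Type*} [Group H] [Finite H] {V : Type*} [AddCommGroup V] [Finite V] {φ : H →* AddMonoid.End V}

/-- An involution fixes a non-zero vector in characteristic two. -/
theorem exists_fixed (hV : ∀ v : V, v + v = 0) {t : H} (ht : t * t = 1) {x : V} (hx : x ≠ 0) :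
    ∃ v, v ≠ 0 ∧ φ t v = v := by
  by_cases h : φ t x = x
  · exact ⟨x, hx, h⟩
  · refine ⟨φ t x + x, fun e => h ?_, ?_⟩
    · rw [add_eq_zero_iff_eq_neg, neg_eq_of_add_eq_zero_left (hV x)] at e
      exact e
    · rw [map_add, ← mul_apply', ht, map_one, add_comm]
      rfl

/-- An abelian normal subgroup is trivial. -/
theorem Ctx.no_abelian (C : Ctx φ) (hV : ∀ v : V, v + v = 0) (A : Subgroup H) (hA : A.Normal)
    (hAc : ∀ a ∈ A, ∀ b ∈ A, Commute a b) : A = ⊥ := by
  by_contra hA1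
  obtain ⟨x0, hx0⟩ := C.nontriv
  have hfpf : ∀ a ∈ A, ∀ v, v ≠ 0 → φ a v = v → a = 1 := fun a ha v hv h =>
    C.eq_one_of_comm hA hA1 (fun m hm => hAc m hm a ha) hv h
  obtain ⟨r, hr, hrd⟩ := Nat.exists_prime_and_dvd (n := Nat.card A) fun h => hA1 (card_eq_one.1 h)
  haveI : Fact r.Prime := ⟨hr⟩
  obtain ⟨⟨a, haA⟩, ha⟩ := exists_prime_orderOf_dvd_card' r hrd
  rw [← orderOf_coe] at ha
  change orderOf a = r at ha
  have har : a ^ r = 1 := by rw [← ha]; exact pow_orderOf_eq_one a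
  have ha1 : a ≠ 1 := fun h => by rw [h, orderOf_one] at ha; exact hr.one_lt.ne ha
  have hr2 : r ≠ 2 := fun h => by
    subst h
    obtain ⟨v, hv, hfix⟩ := exists_fixed (φ := φ) hV ((pow_two a).symm.trans har) hx0
    exact ha1 (hfpf a haA v hv hfix)
  -- the elements of order dividing `r`
  let B : Subgroup H :=
    { carrier := {b | b ∈ A ∧ b ^ r = 1}
      one_mem' := ⟨one_mem A, one_pow r⟩
      mul_mem' := fun {x y} hx hy => ⟨mul_mem hx.1 hy.1, by rw [(hAc x hx.1 y hy.1).mul_pow, hx.2, hy.2, one_mul]⟩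
      inv_mem' := fun {x} hx => ⟨inv_mem hx.1, by rw [inv_pow, hx.2, inv_one]⟩ }
  have hBn : B.Normal := ⟨fun b hb g => ⟨hA.conj_mem b hb.1 g, by rw [conj_pow, hb.2]; group⟩⟩
  have hcyc : ∀ b ∈ B, b ∈ zpowers a := by
    intro b hb
    by_contra hba
    let e := φ
    have hab : Commute (φ a) (φ b) := (hAc a haA b hb.1).map φ
    have key := norm_key hV hr (φ a) (φ b) hab (by rw [← map_pow, har, map_one]) (by rw [← map_pow, hb.2, map_one])
      (fun j w hw => by
        by_cases hw0 : w = 0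
        · rw [hw0, map_zero]
        · exfalso
          rw [← map_pow, ← mul_apply'] at hw
          have h1 := hfpf _ (mul_mem haA (pow_mem hb.1 j)) w hw0 hw
          have hj : ¬ r ∣ j := fun ⟨k, hk⟩ => ha1 (by rw [hk, pow_mul, hb.2, one_pow, mul_one] at h1; exact h1)
          obtain ⟨m, -, hm⟩ := Nat.exists_mul_mod_eq_one_of_coprime ((hr.coprime_iff_not_dvd.2 hj).symm) hr.one_lt
          apply hba
          have h2 : b ^ j = a⁻¹ := eq_inv_of_mul_eq_one_right h1
          have h3 : b = (b ^ j) ^ m := by rw [← pow_mul, pow_eq_pow_mod _ hb.2, hm, pow_one]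
          rw [h3, h2]
          exact pow_mem (inv_mem (mem_zpowers a)) m) x0
    have hb1 : b ≠ 1 := fun h => hba (h ▸ one_mem _)
    have h0 : φ a x0 + x0 = 0 := by
      by_contra hne
      exact hb1 (hfpf b hb.1 _ hne key)
    rw [add_eq_zero_iff_eq_neg, neg_eq_of_add_eq_zero_left (hV x0)] at h0
    exact ha1 (hfpf a haA x0 hx0 h0)
  have hB1 : B ≠ ⊥ := fun h => ha1 ((eq_bot_iff_forall _).1 h a ⟨haA, har⟩)
  -- the centralizer is abelian
  set Z := centralizer ({a} : Set H) with hZ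
  have hZB : ∀ h ∈ Z, h ∈ zpowers a := by
    intro h hh
    obtain ⟨m, hm, e⟩ := C.same B hBn hB1 x0 h
    have hk : φ (m⁻¹ * h) x0 = x0 := by rw [mul_apply', ← e, inv_apply']
    have hha : Commute h a := mem_centralizer_singleton_iff.1 hh
    have h1 : m⁻¹ * h = 1 := by
      refine C.eq_one_of_comm hBn hB1 (fun b hb => ?_) hx0 hk
      refine ((hAc b hb.1 m hm.1).inv_right).mul_right ?_
      obtain ⟨k, rfl⟩ := mem_zpowers_iff.1 (hcyc b hb)
      exact (hha.zpow_right k).symm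
    rw [inv_mul_eq_one.1 h1] at hm
    exact hcyc h hm
  have hpw : ∀ g : H, ∃ k : ℤ, g * a * g⁻¹ = a ^ k := fun g => by
    obtain ⟨k, hk⟩ := mem_zpowers_iff.1 (hcyc _ (hBn.conj_mem a ⟨haA, har⟩ g))
    exact ⟨k, hk.symm⟩
  have hcomm : commutator H ≤ Z := by
    rw [commutator_def, Subgroup.commutator_le]
    intro g _ h _
    obtain ⟨i, hi⟩ := hpw g
    obtain ⟨j, hj⟩ := hpw h
    have e1 : (g * h) * a * (g * h)⁻¹ = a ^ (i * j) := by
      rw [show g * h * a * (g * h)⁻¹ = g * (h * a * h⁻¹) * g⁻¹ by group, hj, ← conj_zpow, hi, ← zpow_mul]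
    have e2 : (h * g) * a * (h * g)⁻¹ = a ^ (i * j) := by
      rw [show h * g * a * (h * g)⁻¹ = h * (g * a * g⁻¹) * h⁻¹ by group, hi, ← conj_zpow, hj, ← zpow_mul, mul_comm]
    refine mem_centralizer_singleton_iff.2 (mul_inv_eq_iff_eq_mul.1 ?_)
    rw [commutatorElement_def,
      show g * h * g⁻¹ * h⁻¹ * a * (g * h * g⁻¹ * h⁻¹)⁻¹ = (g * h) * ((h * g)⁻¹ * a * (h * g)) * (g * h)⁻¹ by group]
    set u := (h * g)⁻¹ * a * (h * g)
    have e3 : (h * g) * u * (h * g)⁻¹ = a := by simp [u, mul_assoc]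
    have hu : u ∈ zpowers a := hcyc _ (by
      have := hBn.conj_mem a ⟨haA, har⟩ (h * g)⁻¹
      simpa [u] using this)
    obtain ⟨k, hk⟩ := mem_zpowers_iff.1 hu
    rw [← hk, ← conj_zpow, e1, ← e2, conj_zpow, hk, e3]
  refine C.insol ⟨2, ?_⟩
  rw [derivedSeries_succ, derivedSeries_one, eq_bot_iff, Subgroup.commutator_le]
  intro g hg h hh
  obtain ⟨i, rfl⟩ := mem_zpowers_iff.1 (hZB g (hcomm hg))
  obtain ⟨j, rfl⟩ := mem_zpowers_iff.1 (hZB h (hcomm hh))
  rw [mem_bot, commutatorElement_eq_one_iff_mul_comm, ← zpow_add, ← zpow_add, add_comm]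

end Cfsg.Agent.ExtPrimAffine
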