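import Mathlib.GroupTheory.Perm.Cycle.Type
import Mathlib.GroupTheory.Solvable
import Mathlib.GroupTheory.SpecificGroups.Cyclic
import Mathlib.Algebra.BigOperators.Group.Finset.Basic
import Mathlib.Algebra.Module.BigOperators
import Cfsg.Agent.S0205
import Cfsg.Agent.S0208
import Cfsg.Agent.Lib.BrauerSuzuki.ZStar

/-!
Insoluble groups of automorphisms of a finite abelian group which are primitive on each orbit, with every
non-trivial normal subgroup having the same orbits and no invariant subgroup: the abelian group has exponent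
two and the group of automorphisms is almost simple.
-/

set_option autoImplicit false
set_option linter.unusedSectionVars false
set_option linter.style.haveILetI false

namespace Cfsg.Agent.ExtPrimAffine

open Subgroup

variable {H : Type*} [Group H] [Finite H] {V : Type*} [AddCommGroup V] [Finite V]

/-- The stabilizer of a vector. -/
def stabV (φ : H →* AddMonoid.End V) (v : V) : Subgroup H where
  carrier := {h | φ h v = v}
  one_mem' := by show φ 1 v = v; rw [map_one]; rfl
  mul_mem' := fun {a b} (ha : φ a v = v) (hb : φ b v = v) => by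
    show φ (a * b) v = v
    rw [map_mul]
    show φ a (φ b v) = v
    rw [hb, ha]
  inv_mem' := fun {a} (ha : φ a v = v) => by
    show φ a⁻¹ v = v
    have : (φ a⁻¹ * φ a) v = v := by rw [← map_mul, inv_mul_cancel, map_one]; rfl
    rwa [show (φ a⁻¹ * φ a) v = φ a⁻¹ (φ a v) from rfl, ha] at this

/-- The hypotheses. -/
structure Ctx (φ : H →* AddMonoid.End V) : Prop where
  inj : Function.Injective φ
  same : ∀ M : Subgroup H, M.Normal → M ≠ ⊥ → ∀ (v : V) (h : H), ∃ m ∈ M, φ m v = φ h v
  irr : ∀ M : Subgroup H, M.Normal → M ≠ ⊥ → ∀ W : AddSubgroup V, (∀ m ∈ M, ∀ w ∈ W, φ m w ∈ W) → W = ⊥ ∨ W = ⊤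
  maxl : ∀ v : V, v ≠ 0 → IsCoatom (stabV φ v)
  insol : ¬ Group.IsSolvable H
  nontriv : ∃ v : V, v ≠ 0

variable {φ : H →* AddMonoid.End V}

theorem mem_stabV {v : V} {h : H} : h ∈ stabV φ v ↔ φ h v = v := Iff.rfl

theorem mul_apply' (a b : H) (v : V) : φ (a * b) v = φ a (φ b v) := by rw [map_mul]; rfl

theorem inv_apply' (a : H) (v : V) : φ a⁻¹ (φ a v) = v := by rw [← mul_apply', inv_mul_cancel, map_one]; rfl

/-- The vectors fixed by a set. -/
def fixV (φ : H →* AddMonoid.End V) (S : Set H) : AddSubgroup V where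
  carrier := {v | ∀ s ∈ S, φ s v = v}
  zero_mem' := fun s _ => map_zero _
  add_mem' := fun {a b} ha hb s hs => by rw [map_add, ha s hs, hb s hs]
  neg_mem' := fun {a} ha s hs => by rw [map_neg, ha s hs]

theorem mem_fixV {S : Set H} {v : V} : v ∈ fixV φ S ↔ ∀ s ∈ S, φ s v = v := Iff.rfl

theorem Ctx.eq_one_of_fix (C : Ctx φ) {h : H} (hh : ∀ v, φ h v = v) : h = 1 :=
  C.inj ((DFunLike.ext _ _ hh).trans (map_one φ).symm)

/-- An element fixing a vector and commuting with a non-trivial normal subgroup is trivial. -/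
theorem Ctx.eq_one_of_comm (C : Ctx φ) {M : Subgroup H} (hM : M.Normal) (hM1 : M ≠ ⊥) {h : H}
    (hc : ∀ m ∈ M, Commute m h) {v : V} (hv : v ≠ 0) (hfix : φ h v = v) : h = 1 := by
  refine C.eq_one_of_fix fun w => ?_
  rcases C.irr M hM hM1 (fixV φ {h}) (fun m hm w hw s hs => by
    rw [Set.mem_singleton_iff.1 hs, ← mul_apply', ← (hc m hm).eq, mul_apply', hw h rfl]) with e | e
  · have : v ∈ fixV φ {h} := fun s hs => by rw [Set.mem_singleton_iff.1 hs]; exact hfix
    rw [e, AddSubgroup.mem_bot] at this
    exact absurd this hv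
  · exact (e.symm ▸ AddSubgroup.mem_top w : w ∈ fixV φ {h}) h rfl

/-- A normal subgroup fixing a non-zero vector is trivial. -/
theorem Ctx.core (C : Ctx φ) {M : Subgroup H} (hM : M.Normal) {v : V} (hv : v ≠ 0)
    (hfix : ∀ m ∈ M, φ m v = v) : M = ⊥ := by
  by_contra hM1
  refine hM1 ((eq_bot_iff_forall _).2 fun m hm => C.eq_one_of_fix fun w => ?_)
  rcases C.irr M hM hM1 (fixV φ M) (fun m hm w hw => by rw [hw m hm]; exact hw) with e | e
  · have : v ∈ fixV φ M := hfix
    rw [e, AddSubgroup.mem_bot] at this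
    exact absurd this hv
  · exact (e.symm ▸ AddSubgroup.mem_top w : w ∈ fixV φ M) m hm

/-- The exponent is two. -/
theorem Ctx.exp_two (C : Ctx φ) (p : ℕ) (hp : p.Prime) (hV : ∀ v : V, p • v = 0) : p = 2 := by
  by_contra hp2
  haveI : Fact (Nat.Prime 2) := ⟨Nat.prime_two⟩
  have heven : 2 ∣ Nat.card H := by
    rw [← even_iff_two_dvd, ← Nat.not_odd_iff_even]
    exact fun h => C.insol (Cfsg.Agent.S0205.result h)
  obtain ⟨t, ht⟩ := exists_prime_orderOf_dvd_card' 2 heven
  have htt : t * t = 1 := by rw [← pow_two, ← ht, pow_orderOf_eq_one]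
  obtain ⟨x, hx⟩ : ∃ x, φ t x ≠ x := by
    by_contra h
    push Not at h
    rw [C.eq_one_of_fix h, orderOf_one] at ht
    omega
  set w := φ t x - x with hw
  have hw0 : w ≠ 0 := sub_ne_zero.2 hx
  have htw : φ t w = -w := by rw [hw, map_sub, ← mul_apply', htt, map_one, neg_sub]; rfl
  have htn : t ∉ stabV φ w := fun h => hw0 (by
    have h' : φ t w = w := h
    rw [htw] at h'
    obtain ⟨k, hk⟩ := hp.odd_of_ne_two hp2
    have h2 : (2 : ℕ) • w = 0 := by rw [two_nsmul]; nth_rw 1 [← h']; rw [neg_add_cancel]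
    have h1 := hV w
    rw [hk, succ_nsmul, mul_nsmul, h2, nsmul_zero, zero_add] at h1
    exact h1)
  have hnorm : t ∈ normalizer (stabV φ w : Set H) := by
    have key : ∀ h, h ∈ stabV φ w → t * h * t⁻¹ ∈ stabV φ w := fun h hh => by
      rw [mem_stabV, mul_apply', mul_apply', inv_eq_of_mul_eq_one_right htt, htw, map_neg,
        (show φ h w = w from hh), map_neg, htw, neg_neg]
    refine mem_normalizer_iff.2 fun h => ⟨key h, fun hh => ?_⟩
    have h1 := key _ hh
    rwa [inv_eq_of_mul_eq_one_right htt, show t * (t * h * t) * t = (t * t) * h * (t * t) by group, htt,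
      one_mul, mul_one] at h1
  rcases (C.maxl w hw0).le_iff.1 (le_normalizer (H := stabV φ w)) with e | e
  · have hn : (stabV φ w).Normal := normalizer_eq_top_iff.1 e
    have hbot := C.core hn hw0 fun m hm => hm
    have hco := C.maxl w hw0
    rw [hbot] at hco
    refine C.insol ?_
    have hcyc : zpowers t = ⊤ := (hco.le_iff.1 bot_le).resolve_right fun h => htn (by
      rw [zpowers_eq_bot.1 h]; exact one_mem _)
    haveI : IsCyclic H := ⟨t, fun y => (mem_zpowers_iff).1 (hcyc.symm ▸ mem_top y)⟩
    letI : CommGroup H := IsCyclic.commGroup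
    infer_instance
  · exact htn (e ▸ hnorm)

/-- Two commuting maps of prime order: the sums over their combinations. -/
theorem norm_key {K : Type*} [AddCommGroup K] (hK : ∀ x : K, x + x = 0) {r : ℕ} (hr : r.Prime)
    (a b : AddMonoid.End K) (hab : Commute a b) (ha : a ^ r = 1) (hb : b ^ r = 1)
    (hfix : ∀ (j : ℕ) (w : K), a ((b ^ j) w) = w → a w = w) (x : K) : b (a x + x) = a x + x := by
  rcases eq_or_ne r 2 with rfl | hr2
  · have haa : ∀ y, a (a y) = y := fun y => DFunLike.congr_fun ((pow_two a).symm.trans ha) y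
    have hbb : ∀ y, b (b y) = y := fun y => DFunLike.congr_fun ((pow_two b).symm.trans hb) y
    have hba : ∀ y, b (a y) = a (b y) := fun y => DFunLike.congr_fun hab.eq.symm y
    have h := hfix 1 (x + a (b x)) (by
      rw [pow_one, map_add, map_add, hba (b x), haa, hbb, add_comm])
    rw [map_add, haa] at h
    have h' : a x + x = a (b x) + b x := by
      calc a x + x = a x + b x + (b x + x) := by rw [add_assoc, ← add_assoc (b x), hK, zero_add]
        _ = x + a (b x) + (b x + x) := by rw [h]
        _ = a (b x) + b x + (x + x) := by abel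
        _ = a (b x) + b x := by rw [hK, add_zero]
    rw [map_add, hba]
    exact h'.symm
  · haveI : Fact r.Prime := ⟨hr⟩
    let c : ℕ → AddMonoid.End K := fun j => a * b ^ j
    have hcr : ∀ j, c j ^ r = 1 := fun j => by
      rw [(hab.pow_right j).mul_pow, ha, one_mul, ← pow_mul, mul_comm, pow_mul, hb, one_pow]
    have shift : ∀ (e : AddMonoid.End K), e ^ r = 1 → ∀ y,
        e (∑ i ∈ Finset.range r, (e ^ i) y) = ∑ i ∈ Finset.range r, (e ^ i) y := fun e he y => by
      rw [map_sum]
      have h1 : ∑ i ∈ Finset.range (r + 1), (e ^ i) y = ∑ i ∈ Finset.range r, (e ^ i) y + y := by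
        rw [Finset.sum_range_succ, he]; rfl
      rw [Finset.sum_range_succ'] at h1
      refine (Finset.sum_congr rfl fun i _ => ?_).trans (add_right_cancel h1)
      rw [pow_succ']
      rfl
    have hNfix : ∀ j, a (∑ i ∈ Finset.range r, (c j ^ i) x) = ∑ i ∈ Finset.range r, (c j ^ i) x :=
      fun j => hfix j _ (shift (c j) (hcr j) x)
    set S := ∑ j ∈ Finset.range r, ∑ i ∈ Finset.range r, (c j ^ i) x with hS
    have hSa : a S = S := by rw [hS, map_sum]; exact Finset.sum_congr rfl fun j _ => hNfix j
    have hSi : ∀ i, ¬ r ∣ i → b (∑ j ∈ Finset.range r, (c j ^ i) x) = ∑ j ∈ Finset.range r, (c j ^ i) x := by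
      intro i hi
      have e : ∀ j, (c j ^ i) x = ((b ^ i) ^ j) ((a ^ i) x) := fun j => by
        rw [(hab.pow_right j).mul_pow, ← pow_mul, mul_comm j i, pow_mul, ((hab.pow_right i).pow_right j).pow_left i |>.eq]
        rfl
      simp only [e]
      set d := b ^ i with hd
      have hdr : d ^ r = 1 := by rw [hd, ← pow_mul, mul_comm, pow_mul, hb, one_pow]
      set y := ∑ j ∈ Finset.range r, (d ^ j) ((a ^ i) x)
      have hy : d y = y := shift d hdr _
      have hpow : ∀ m : ℕ, (d ^ m) y = y := fun m => by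
        induction m with
        | zero => rfl
        | succ m ih => rw [pow_succ]; show (d ^ m) (d y) = y; rw [hy, ih]
      obtain ⟨m, hm⟩ : ∃ m, i * m % r = 1 := by
        obtain ⟨m, hm⟩ := Nat.exists_mul_mod_eq_one_of_coprime ((hr.coprime_iff_not_dvd.2 hi).symm) hr.one_lt
        exact ⟨m, hm.2⟩
      have : d ^ m = b := by rw [hd, ← pow_mul, pow_eq_pow_mod _ hb, hm, pow_one]
      rw [← this]
      exact hpow m
    obtain ⟨rest, hrest, hbrest⟩ : ∃ rest, S = x + rest ∧ b rest = rest := by
      refine ⟨∑ i ∈ Finset.range (r - 1), ∑ j ∈ Finset.range r, (c j ^ (i + 1)) x, ?_, ?_⟩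
      · rw [hS, Finset.sum_comm]
        conv_lhs => rw [show r = (r - 1) + 1 by have := hr.one_lt; omega, Finset.sum_range_succ']
        rw [show r - 1 + 1 = r by have := hr.one_lt; omega, add_comm]
        congr 1
        simp only [pow_zero]
        obtain ⟨k, hk⟩ := hr.odd_of_ne_two hr2
        show ∑ _j ∈ Finset.range r, x = x
        rw [Finset.sum_const, Finset.card_range, hk, succ_nsmul, mul_nsmul, two_nsmul, hK, nsmul_zero, zero_add]
      · rw [map_sum]
        refine Finset.sum_congr rfl fun i hi => hSi (i + 1) fun h => ?_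
        have := Nat.le_of_dvd (Nat.succ_pos i) h
        rw [Finset.mem_range] at hi
        omega
    rw [hrest, map_add] at hSa
    have h2 : a x + x = a rest + rest := by
      calc a x + x = a x + a rest + (a rest + x) := by rw [add_assoc, ← add_assoc (a rest), hK, zero_add]
        _ = x + rest + (a rest + x) := by rw [hSa]
        _ = a rest + rest + (x + x) := by abel
        _ = a rest + rest := by rw [hK, add_zero]
    rw [h2, map_add, hbrest, show b (a rest) = a (b rest) from DFunLike.congr_fun hab.eq.symm rest, hbrest]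

end Cfsg.Agent.ExtPrimAffine
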