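import Cfsg.Agent.Lib.ExtPrimAffine.Abelian

/-!
A minimal normal subgroup, one of its minimal normal subgroups, and the stabilizers in the latter.
-/

set_option autoImplicit false
set_option linter.unusedSectionVars false
set_option linter.style.haveILetI false

namespace Cfsg.Agent.ExtPrimAffine

open Subgroup
open scoped commutatorElement

variable {H : Type*} [Group H] [Finite H] {V : Type*} [AddCommGroup V] [Finite V] {φ : H →* AddMonoid.End V}

/-- A minimal normal subgroup and one of its own minimal normal subgroups. -/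
structure Factors (M T : Subgroup H) : Prop where
  normal : M.Normal
  ne : M ≠ ⊥
  min : ∀ K : Subgroup H, K ≤ M → K.Normal → K = ⊥ ∨ K = M
  le : T ≤ M
  ne' : T ≠ ⊥
  norm : M ≤ normalizer (T : Set H)
  min' : ∀ K : Subgroup H, K ≤ T → M ≤ normalizer (K : Set H) → K = ⊥ ∨ K = T

theorem exists_factors [Nontrivial H] : ∃ M T : Subgroup H, Factors M T := by
  haveI : Finite (Subgroup H) := inferInstance
  obtain ⟨M, ⟨hMn, hM1⟩, hMmin⟩ := (Set.toFinite {M : Subgroup H | M.Normal ∧ M ≠ ⊥}).exists_minimal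
    ⟨⊤, inferInstance, top_ne_bot⟩
  obtain ⟨T, ⟨hTM, hT1, hTn⟩, hTmin⟩ :=
    (Set.toFinite {T : Subgroup H | T ≤ M ∧ T ≠ ⊥ ∧ M ≤ normalizer (T : Set H)}).exists_minimal
      ⟨M, le_rfl, hM1, le_normalizer⟩
  refine ⟨M, T, hMn, hM1, fun K hK hKn => or_iff_not_imp_left.2 fun h => le_antisymm hK (hMmin ⟨hKn, h⟩ hK),
    hTM, hT1, hTn, fun K hK hKn => or_iff_not_imp_left.2 fun h => le_antisymm hK (hTmin ⟨hK.trans hTM, h, hKn⟩ hK)⟩

namespace Factors

variable {M T : Subgroup H} (F : Factors M T)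

include F

theorem conj_le (k : H) {x : H} (hx : x ∈ T) : k * x * k⁻¹ ∈ M := F.normal.conj_mem x (F.le hx) k

/-- A subgroup normalized by all conjugates of `T` is normalized by the minimal normal subgroup. -/
theorem le_of_conj (K : Subgroup H) (h : ∀ k : H, ∀ x ∈ T, k * x * k⁻¹ ∈ K) : M ≤ K := by
  set N := closure {y : H | ∃ k, ∃ x ∈ T, k * x * k⁻¹ = y} with hN
  have hNM : N ≤ M := (closure_le _).2 (by rintro _ ⟨k, x, hx, rfl⟩; exact F.conj_le k hx)
  have hNn : N.Normal := ⟨fun n hn g => by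
    induction hn using closure_induction with
    | mem y hy =>
      obtain ⟨k, x, hx, rfl⟩ := hy
      exact subset_closure ⟨g * k, x, hx, by group⟩
    | one => simp
    | mul a b _ _ ha hb =>
      rw [show g * (a * b) * g⁻¹ = g * a * g⁻¹ * (g * b * g⁻¹) by group]
      exact mul_mem ha hb
    | inv a _ ha =>
      rw [show g * a⁻¹ * g⁻¹ = (g * a * g⁻¹)⁻¹ by group]
      exact inv_mem ha⟩
  rcases F.min N hNM hNn with e | e
  · refine absurd ((eq_bot_iff_forall _).2 fun x hx => ?_) F.ne'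
    have : x ∈ N := subset_closure ⟨1, x, hx, by simp⟩
    rwa [e, mem_bot] at this
  · rw [← e]
    exact (closure_le _).2 (by rintro _ ⟨k, x, hx, rfl⟩; exact h k x hx)

theorem norm_conj (k : H) {m : H} (hm : m ∈ M) {x : H} (hx : k⁻¹ * x * k ∈ T) : k⁻¹ * (m * x * m⁻¹) * k ∈ T := by
  have hm' : k⁻¹ * m * k ∈ normalizer (T : Set H) := F.norm (by simpa using F.normal.conj_mem m hm k⁻¹)
  have := (mem_normalizer_iff.1 hm' _).1 hx
  simpa [mul_assoc] using this

/-- Distinct conjugates of `T` commute. -/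
theorem conj_comm (k : H) (hk : T.map (MulAut.conj k).toMonoidHom ≠ T) {x y : H} (hx : x ∈ T)
    (hy : k⁻¹ * y * k ∈ T) : Commute x y := by
  have mem : ∀ z, z ∈ T.map (MulAut.conj k).toMonoidHom ↔ k⁻¹ * z * k ∈ T := fun z => by
    rw [mem_map_equiv, MulAut.conj_symm_apply]
  have hn : M ≤ normalizer ((T.map (MulAut.conj k).toMonoidHom : Subgroup H) : Set H) := fun m hm => by
    refine mem_normalizer_iff.2 fun z => ⟨fun hz => (mem _).2 (F.norm_conj k hm ((mem z).1 hz)), fun hz => (mem _).2 ?_⟩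
    have := F.norm_conj k (inv_mem hm) ((mem _).1 hz)
    simpa [mul_assoc] using this
  rcases F.min' (T ⊓ T.map (MulAut.conj k).toMonoidHom) inf_le_left
    ((le_inf F.norm hn).trans (fun g hg => mem_normalizer_iff.2 fun z =>
      and_congr (mem_normalizer_iff.1 hg.1 z) (mem_normalizer_iff.1 hg.2 z))) with e | e
  · refine commutatorElement_eq_one_iff_mul_comm.1 ?_
    have hxM := F.le hx
    have hyM : y ∈ M := by simpa [mul_assoc] using F.conj_le k hy
    have h1 : ⁅x, y⁆ ∈ T ⊓ T.map (MulAut.conj k).toMonoidHom := by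
      rw [commutatorElement_def]
      refine mem_inf.2 ⟨?_, ?_⟩
      · rw [show x * y * x⁻¹ * y⁻¹ = x * (y * x⁻¹ * y⁻¹) by group]
        exact mul_mem hx ((mem_normalizer_iff.1 (F.norm hyM) _).1 (inv_mem hx))
      · exact mul_mem ((mem_normalizer_iff.1 (hn hxM) _).1 ((mem y).2 hy)) (inv_mem ((mem y).2 hy))
    rwa [e, mem_bot] at h1
  · refine absurd (eq_of_le_of_card_ge ?_ ?_).symm hk
    · exact inf_eq_left.1 e
    · rw [card_map_of_injective (MulAut.conj k).injective]

/-- `T` has no proper non-trivial normal subgroup. -/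
theorem simple (K : Subgroup H) (hK : K ≤ T) (hn : T ≤ normalizer (K : Set H)) : K = ⊥ ∨ K = T := by
  refine F.min' K hK (F.le_of_conj _ fun k x hx => ?_)
  by_cases hk : T.map (MulAut.conj k).toMonoidHom = T
  · exact hn (hk ▸ mem_map_of_mem _ hx)
  · refine mem_normalizer_iff.2 fun z => ?_
    have hc : ∀ w ∈ K, k * x * k⁻¹ * w * (k * x * k⁻¹)⁻¹ = w := fun w hw => by
      rw [← (F.conj_comm k hk (hK hw) (by simpa [mul_assoc] using hx)).eq, mul_inv_cancel_right]
    refine ⟨fun hz => (hc z hz).symm ▸ hz, fun hz => ?_⟩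
    have := (hc _ hz).symm
    rw [mul_left_inj, mul_right_inj] at this
    exact this ▸ hz

end Factors

variable {M T : Subgroup H}

theorem Ctx.T_noncomm (C : Ctx φ) (hV : ∀ v : V, v + v = 0) (F : Factors M T) :
    ¬ ∀ a ∈ T, ∀ b ∈ T, Commute a b := by
  intro hc
  refine F.ne (C.no_abelian hV M F.normal fun a ha b hb => ?_)
  have h1 : M ≤ centralizer (M : Set H) := by
    refine F.le_of_conj _ fun k x hx => mem_centralizer_iff.2 fun m hm => ?_
    have h2 : M ≤ centralizer ({k * x * k⁻¹} : Set H) := F.le_of_conj _ fun l y hy => by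
      refine mem_centralizer_singleton_iff.2 ?_
      have h3 : Commute ((k⁻¹ * l) * y * (k⁻¹ * l)⁻¹) x := by
        by_cases e : T.map (MulAut.conj (k⁻¹ * l)).toMonoidHom = T
        · exact hc _ (e ▸ mem_map_of_mem _ hy) x hx
        · exact (F.conj_comm _ e hx (by simpa [mul_assoc] using hy)).symm
      have := h3.map (MulAut.conj k)
      simp only [MulAut.conj_apply] at this
      rw [show k * (k⁻¹ * l * y * (k⁻¹ * l)⁻¹) * k⁻¹ = l * y * l⁻¹ by group] at this
      exact this.eq
    exact mem_centralizer_singleton_iff.1 (h2 hm)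
  exact (mem_centralizer_iff.1 (h1 ha) b hb).symm

theorem Ctx.T_even (C : Ctx φ) (hV : ∀ v : V, v + v = 0) (F : Factors M T) : ∃ t ∈ T, orderOf t = 2 := by
  haveI : Fact (Nat.Prime 2) := ⟨Nat.prime_two⟩
  have heven : 2 ∣ Nat.card T := by
    rw [← even_iff_two_dvd, ← Nat.not_odd_iff_even]
    intro hodd
    haveI hsol := Cfsg.Agent.S0205.result hodd
    haveI : Nontrivial T := (nontrivial_iff_ne_bot T).2 F.ne'
    have hlt := Group.IsSolvable.commutator_lt_top_of_nontrivial ↥T
    set K := (commutator ↥T).map T.subtype with hK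
    have hKn : T ≤ normalizer (K : Set H) := fun g hg => by
      have key : ∀ g ∈ T, ∀ z ∈ K, g * z * g⁻¹ ∈ K := by
        rintro g hg _ ⟨z, hz, rfl⟩
        exact ⟨⟨g, hg⟩ * z * ⟨g, hg⟩⁻¹, (inferInstance : (commutator ↥T).Normal).conj_mem z hz _, rfl⟩
      refine mem_normalizer_iff.2 fun z => ⟨key g hg z, fun hz => ?_⟩
      have := key g⁻¹ (inv_mem hg) _ hz
      simpa [mul_assoc] using this
    rcases F.simple K (map_subtype_le _) hKn with e | e
    · refine C.T_noncomm hV F fun a ha b hb => commutatorElement_eq_one_iff_mul_comm.1 ?_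
      have : ((⁅(⟨a, ha⟩ : T), ⟨b, hb⟩⁆ : T) : H) ∈ K :=
        ⟨⁅(⟨a, ha⟩ : T), ⟨b, hb⟩⁆, by rw [commutator_def]; exact commutator_mem_commutator (mem_top _) (mem_top _), rfl⟩
      rw [e, mem_bot] at this
      exact this
    · refine hlt.ne (map_injective T.subtype_injective ?_)
      rw [← hK, e, ← MonoidHom.range_eq_map, range_subtype]
  obtain ⟨⟨t, htT⟩, ht⟩ := exists_prime_orderOf_dvd_card' 2 heven
  exact ⟨t, htT, by rw [← ht, ← orderOf_coe]⟩

/-- Elements of a given prime order generate `T`. -/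
theorem Factors.closure_order (F : Factors M T) {r : ℕ} (hr : r.Prime) (hrd : r ∣ Nat.card T) :
    closure {y : H | y ∈ T ∧ orderOf y = r} = T := by
  haveI : Fact r.Prime := ⟨hr⟩
  set K := closure {y : H | y ∈ T ∧ orderOf y = r} with hK
  have hKT : K ≤ T := (closure_le _).2 fun y hy => hy.1
  have key : ∀ g ∈ T, ∀ z ∈ K, g * z * g⁻¹ ∈ K := by
    intro g hg z hz
    induction hz using closure_induction with
    | mem y hy =>
      refine subset_closure ⟨mul_mem (mul_mem hg hy.1) (inv_mem hg), ?_⟩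
      rw [show g * y * g⁻¹ = MulAut.conj g y from rfl, MulEquiv.orderOf_eq]
      exact hy.2
    | one => simp
    | mul a b _ _ ha hb =>
      rw [show g * (a * b) * g⁻¹ = g * a * g⁻¹ * (g * b * g⁻¹) by group]
      exact mul_mem ha hb
    | inv a _ ha =>
      rw [show g * a⁻¹ * g⁻¹ = (g * a * g⁻¹)⁻¹ by group]
      exact inv_mem ha
  rcases F.simple K hKT (fun g hg => mem_normalizer_iff.2 fun z => ⟨key g hg z, fun hz => by
    have := key g⁻¹ (inv_mem hg) _ hz
    simpa [mul_assoc] using this⟩) with e | e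
  · obtain ⟨⟨y, hyT⟩, hy⟩ := exists_prime_orderOf_dvd_card' r hrd
    have h1 : y ∈ K := subset_closure ⟨hyT, by rw [← hy, ← orderOf_coe]⟩
    rw [e, mem_bot] at h1
    subst h1
    rw [show (⟨1, hyT⟩ : T) = 1 from rfl, orderOf_one] at hy
    exact absurd hy.symm hr.one_lt.ne'
  · exact e

end Cfsg.Agent.ExtPrimAffine
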