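import Cfsg.Agent.Lib.ExtPrimAffine.Factors

/-!
The minimal normal subgroup is simple with trivial centralizer.
-/

set_option autoImplicit false
set_option linter.unusedSectionVars false
set_option linter.style.haveILetI false

namespace Cfsg.Agent.ExtPrimAffine

open Subgroup
open scoped commutatorElement

variable {H : Type*} [Group H] [Finite H] {V : Type*} [AddCommGroup V] [Finite V] {φ : H →* AddMonoid.End V}
  {M T : Subgroup H}

/-- The product property: a fixed element of `T` forces the `T`-part of a fixing element to fix. -/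
theorem Ctx.split (C : Ctx φ) (F : Factors M T) {v : V} (hv : v ≠ 0) {t₀ : H} (ht₀ : t₀ ∈ T) (ht₀1 : t₀ ≠ 1)
    (hfix : φ t₀ v = v) {t s : H} (ht : t ∈ T) (hs : s ∈ M) (hsT : ∀ x ∈ T, Commute x s)
    (hts : φ (t * s) v = v) : φ t v = v := by
  set L := T ⊓ stabV φ v with hL
  set N₁ := T ⊓ normalizer (L : Set H) with hN₁
  have hkN : ∀ k : H, φ k v = v → ∀ n ∈ N₁, k * n * k⁻¹ ∈ normalizer (L : Set H) := by
    intro k hk n hn
    by_cases e : T.map (MulAut.conj k).toMonoidHom = T
    · have hkT : k ∈ normalizer (T : Set H) := by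
        refine mem_normalizer_iff.2 fun z => ?_
        conv_rhs => rw [← e, mem_map_equiv, MulAut.conj_symm_apply]
        rw [show k⁻¹ * (k * z * k⁻¹) * k = z by group]
      have hkv : k ∈ normalizer (stabV φ v : Set H) := le_normalizer hk
      have hkL : k ∈ normalizer (L : Set H) := mem_normalizer_iff.2 fun z =>
        and_congr (mem_normalizer_iff.1 hkT z) (mem_normalizer_iff.1 hkv z)
      exact mul_mem (mul_mem hkL hn.2) (inv_mem hkL)
    · refine mem_normalizer_iff.2 fun z => ?_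
      have hc : ∀ w ∈ L, k * n * k⁻¹ * w * (k * n * k⁻¹)⁻¹ = w := fun w hw => by
        rw [← (F.conj_comm k e hw.1 (by simpa [mul_assoc] using hn.1)).eq, mul_inv_cancel_right]
      refine ⟨fun hz => (hc z hz).symm ▸ hz, fun hz => ?_⟩
      have := (hc _ hz).symm
      rw [mul_left_inj, mul_right_inj] at this
      exact this ▸ hz
  set A := closure {y : H | ∃ k, φ k v = v ∧ ∃ n ∈ N₁, k * n * k⁻¹ = y} with hA
  have hAL : A ≤ normalizer (L : Set H) := (closure_le _).2 (by rintro _ ⟨k, hk, n, hn, rfl⟩; exact hkN k hk n hn)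
  have hAM : A ≤ M := (closure_le _).2 (by rintro _ ⟨k, -, n, hn, rfl⟩; exact F.conj_le k hn.1)
  have key : ∀ k : H, φ k v = v → ∀ a ∈ A, k * a * k⁻¹ ∈ A := by
    intro k hk a ha
    induction ha using closure_induction with
    | mem y hy =>
      obtain ⟨l, hl, n, hn, rfl⟩ := hy
      exact subset_closure ⟨k * l, by rw [mul_apply', hl, hk], n, hn, by group⟩
    | one => simp
    | mul a b _ _ ha hb =>
      rw [show k * (a * b) * k⁻¹ = k * a * k⁻¹ * (k * b * k⁻¹) by group]
      exact mul_mem ha hb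
    | inv a _ ha =>
      rw [show k * a⁻¹ * k⁻¹ = (k * a * k⁻¹)⁻¹ by group]
      exact inv_mem ha
  have hHA : stabV φ v ≤ normalizer (A : Set H) := fun k hk => mem_normalizer_iff.2 fun a =>
    ⟨key k hk a, fun h => by simpa [mul_assoc] using key k⁻¹ (inv_mem hk) _ h⟩
  have hMT : M ≤ normalizer (T : Set H) := F.norm
  have hfixL : ∀ h ∈ M, φ h v = v → h ∈ normalizer (L : Set H) := fun h hM hh => mem_normalizer_iff.2 fun z =>
    and_congr (mem_normalizer_iff.1 (hMT hM) z)
      (mem_normalizer_iff.1 (le_normalizer (H := stabV φ v) hh) z)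
  have hA_le : A ≤ stabV φ v := by
    rcases (C.maxl v hv).le_iff.1 (le_sup_right : stabV φ v ≤ A ⊔ stabV φ v) with e | e
    · exfalso
      have hTL : T ≤ normalizer (L : Set H) := by
        intro x hx
        have hmem : x ∈ ((A ⊔ stabV φ v : Subgroup H) : Set H) := e ▸ mem_top x
        rw [coe_mul_of_right_le_normalizer_left A (stabV φ v) hHA] at hmem
        obtain ⟨a, ha, k, hk, rfl⟩ := hmem
        refine mul_mem (hAL ha) (hfixL k ?_ hk)
        simpa using mul_mem (inv_mem (hAM ha)) (F.le hx)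
      rcases F.simple L inf_le_left hTL with e' | e'
      · exact ht₀1 ((eq_bot_iff_forall _).1 e' t₀ ⟨ht₀, hfix⟩)
      · refine F.ne (C.core F.normal hv fun m hm => ?_)
        suffices M ≤ stabV φ v from this hm
        refine F.le_of_conj _ fun h x hx => ?_
        obtain ⟨m, hm, em⟩ := C.same M F.normal F.ne v h
        have hk : φ (m⁻¹ * h) v = v := by rw [mul_apply', ← em, inv_apply']
        have hxv : φ x v = v := (e'.symm ▸ hx : x ∈ L).2
        have h1 : φ ((m⁻¹ * h) * x * (m⁻¹ * h)⁻¹) v = v := by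
          rw [mul_apply', mul_apply', show φ (m⁻¹ * h)⁻¹ v = v from (stabV φ v).inv_mem hk, hxv, hk]
        -- the conjugate is normalized by `M`
        have h2 : h⁻¹ * ((m⁻¹ * h) * x * (m⁻¹ * h)⁻¹) * h ∈ T := by
          have := F.norm_conj h (inv_mem hm) (x := h * x * h⁻¹) (by simpa [mul_assoc] using hx)
          simpa [mul_assoc] using this
        have hm' : h⁻¹ * m * h ∈ normalizer (T : Set H) := F.norm (by simpa using F.normal.conj_mem m hm h⁻¹)
        have h3 : (h⁻¹ * m * h) * x * (h⁻¹ * m * h)⁻¹ ∈ T := (mem_normalizer_iff.1 hm' x).1 hx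
        set x' := (h⁻¹ * m * h) * x * (h⁻¹ * m * h)⁻¹ with hx'
        have hx'v : φ x' v = v := (e'.symm ▸ h3 : x' ∈ L).2
        show φ (h * x * h⁻¹) v = v
        have e3 : h * x * h⁻¹ = (m⁻¹ * h) * x' * (m⁻¹ * h)⁻¹ := by rw [hx']; group
        rw [e3, mul_apply', mul_apply', show φ (m⁻¹ * h)⁻¹ v = v from (stabV φ v).inv_mem hk, hx'v, hk]
    · exact e ▸ le_sup_left
  have htsM : t * s ∈ M := mul_mem (F.le ht) hs
  have h1 : t * s ∈ normalizer (L : Set H) := hfixL _ htsM hts
  have h2 : s ∈ normalizer (L : Set H) := by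
    refine mem_normalizer_iff.2 fun z => ?_
    have hc : ∀ w ∈ L, s * w * s⁻¹ = w := fun w hw => by rw [← (hsT w hw.1).eq, mul_inv_cancel_right]
    refine ⟨fun hz => (hc z hz).symm ▸ hz, fun hz => ?_⟩
    have := (hc _ hz).symm
    rw [mul_left_inj, mul_right_inj] at this
    exact this ▸ hz
  have h3 : t ∈ N₁ := ⟨ht, by simpa using mul_mem h1 (inv_mem h2)⟩
  exact hA_le (subset_closure ⟨1, by rw [map_one]; rfl, t, h3, by group⟩)

/-- An element of `T` preserving the fixed space of a non-trivial element of `T` fixes it. -/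
theorem Ctx.fix_of_stab (C : Ctx φ) (hV : ∀ v : V, v + v = 0) (F : Factors M T) (hTn : ¬ T.Normal)
    {S : Set H} (hS : S ⊆ T) {t₀ : H} (ht₀ : t₀ ∈ S) (ht₀1 : t₀ ≠ 1) {h : H} (hh : h ∈ T)
    (hK : ∀ w ∈ fixV φ S, φ h w ∈ fixV φ S) {v : V} (hv : v ∈ fixV φ S) : φ h v = v := by
  classical
  set K := fixV φ S with hKdef
  let St : Subgroup H :=
    { carrier := {g | ∀ w, φ g w ∈ K ↔ w ∈ K}
      one_mem' := fun w => by rw [map_one]; rfl
      mul_mem' := fun {a b} ha hb w => by rw [mul_apply', ha, hb]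
      inv_mem' := fun {a} ha w => by
        rw [← ha (φ a⁻¹ w), ← mul_apply', mul_inv_cancel, map_one]; rfl }
  let res : ↥St →* AddMonoid.End ↥K :=
    { toFun := fun g => AddMonoidHom.mk' (fun w => ⟨φ g w, (g.2 w).2 w.2⟩) fun a b => Subtype.ext (map_add _ _ _)
      map_one' := DFunLike.ext _ _ fun w => Subtype.ext (by show φ ((1 : St) : H) (w : V) = w; rw [coe_one, map_one]; rfl)
      map_mul' := fun a b => DFunLike.ext _ _ fun w => Subtype.ext (by
        show φ ((a * b : St) : H) (w : V) = φ a (φ b w)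
        rw [coe_mul, mul_apply']) }
  have hstab : ∀ g : H, (∀ w ∈ K, φ g w ∈ K) → g ∈ St := fun g hg w => by
    refine ⟨fun hgw => ?_, hg w⟩
    have hi : Function.Injective (fun x : K => (⟨φ g x, hg x x.2⟩ : K)) := fun a b e => by
      have e' : φ g (a : V) = φ g b := congrArg (fun x : K => (x : V)) e
      exact Subtype.ext (by rw [← inv_apply' (φ := φ) g a, e', inv_apply'])
    obtain ⟨x, hx⟩ := (Finite.injective_iff_surjective.1 hi) ⟨φ g w, hgw⟩
    have e' : φ g (x : V) = φ g w := congrArg (fun x : K => (x : V)) hx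
    rw [← inv_apply' (φ := φ) g w, ← e', inv_apply']
    exact x.2
  set hg : ↥St := ⟨h, hstab h hK⟩ with hhg
  suffices e : res hg = 1 by
    exact congrArg (fun f : AddMonoid.End ↥K => ((f ⟨v, hv⟩ : ↥K) : V)) e
  by_contra hne
  have hpow : ∀ n, res hg ^ n = res (hg ^ n) := fun n => (map_pow res hg n).symm
  have hfin : res hg ^ orderOf hg = 1 := by rw [hpow, pow_orderOf_eq_one, map_one]
  obtain ⟨r, hr, hrd⟩ := Nat.exists_prime_and_dvd (n := orderOf (res hg)) fun e => hne (orderOf_eq_one_iff.1 e)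
  have hdvd : orderOf (res hg) ∣ orderOf hg := orderOf_dvd_of_pow_eq_one hfin
  set y := hg ^ (orderOf (res hg) / r) with hy
  have hyr : res y ^ r = 1 := by
    rw [hy, map_pow, ← pow_mul, Nat.div_mul_cancel hrd, pow_orderOf_eq_one]
  have hpos : 0 < orderOf (res hg) := orderOf_pos_iff.2 (isOfFinOrder_iff_pow_eq_one.2 ⟨_, orderOf_pos hg, hfin⟩)
  have hy1 : res y ≠ 1 := by
    rw [hy, map_pow]
    refine pow_ne_one_of_lt_orderOf ?_ (Nat.div_lt_self hpos hr.one_lt)
    exact (Nat.div_pos (Nat.le_of_dvd hpos hrd) hr.pos).ne'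
  have hyT : (y : H) ∈ T := by rw [hy, SubgroupClass.coe_pow]; exact pow_mem hh _
  have hrT : r ∣ Nat.card T := (hrd.trans hdvd).trans (by
    rw [← orderOf_coe]
    exact Subgroup.orderOf_dvd_natCard T hh)
  obtain ⟨σ, hσ⟩ : ∃ σ, T.map (MulAut.conj σ).toMonoidHom ≠ T := by
    by_contra hall
    push Not at hall
    exact hTn ⟨fun x hx g => hall g ▸ mem_map_of_mem _ hx⟩
  have hcm : ∀ x ∈ T, ∀ g ∈ T, Commute x (σ * g * σ⁻¹) := fun x hx g hg' =>
    F.conj_comm σ hσ hx (by simpa [mul_assoc] using hg')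
  have hzero : ∀ x : ↥K, res y x + x = 0 := by
    intro x
    have hfixg : ∀ g ∈ T, orderOf g = r → φ (σ * g * σ⁻¹) ((res y x + x : ↥K) : V) = ((res y x + x : ↥K) : V) := by
      intro g hg' hgo
      have hgSt : σ * g * σ⁻¹ ∈ St := hstab _ fun w hw s hs => by
        rw [← mul_apply', (hcm s (hS hs) g hg').eq, mul_apply', hw s hs]
      have hgr : (σ * g * σ⁻¹) ^ r = 1 := by rw [conj_pow, ← hgo, pow_orderOf_eq_one]; group
      have := norm_key (K := ↥K) (fun w => Subtype.ext (hV (w : V))) hr (res y) (res ⟨_, hgSt⟩)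
        ((show Commute y ⟨_, hgSt⟩ from Subtype.ext (hcm _ hyT g hg')).map res) hyr
        (by rw [← map_pow, show (⟨σ * g * σ⁻¹, hgSt⟩ : ↥St) ^ r = 1 from Subtype.ext hgr, map_one])
        (fun j w hw => by
          by_cases hw0 : (w : V) = 0
          · rw [show w = 0 from Subtype.ext hw0, map_zero]
          · rw [← map_pow] at hw
            have hw' : φ ((y : H) * (σ * g * σ⁻¹) ^ j) (w : V) = w := by
              rw [mul_apply']
              exact congrArg (fun z : ↥K => (z : V)) hw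
            exact Subtype.ext (C.split F hw0 (hS ht₀) ht₀1 (w.2 t₀ ht₀) hyT (pow_mem (F.conj_le σ hg') j)
              (fun x hx => (hcm x hx g hg').pow_right j) hw')) x
      exact congrArg (fun z : ↥K => (z : V)) this
    set w := ((res y x + x : ↥K) : V) with hw
    have hTfix : ∀ g ∈ T, φ (σ * g * σ⁻¹) w = w := by
      intro g hg'
      rw [← F.closure_order hr hrT] at hg'
      induction hg' using closure_induction with
      | mem z hz => exact hfixg z hz.1 hz.2
      | one => simp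
      | mul a b _ _ ha hb =>
        rw [show σ * (a * b) * σ⁻¹ = σ * a * σ⁻¹ * (σ * b * σ⁻¹) by group, mul_apply', hb, ha]
      | inv a _ ha =>
        rw [show σ * a⁻¹ * σ⁻¹ = (σ * a * σ⁻¹)⁻¹ by group]
        exact (stabV φ w).inv_mem ha
    -- the vectors fixed by a conjugate of `T`
    set W := fixV φ ((fun g => σ * g * σ⁻¹) '' (T : Set H)) with hW
    have hWinv : ∀ m ∈ M, ∀ u ∈ W, φ m u ∈ W := by
      rintro m hm u hu _ ⟨g, hg', rfl⟩
      show φ (σ * g * σ⁻¹) (φ m u) = φ m u
      have hm' : σ⁻¹ * m⁻¹ * σ ∈ normalizer (T : Set H) :=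
        F.norm (by simpa using F.normal.conj_mem m⁻¹ (inv_mem hm) σ⁻¹)
      have h1 := hu _ ⟨_, (mem_normalizer_iff.1 hm' g).1 hg', rfl⟩
      rw [← mul_apply', show σ * g * σ⁻¹ * m =
        m * (σ * (σ⁻¹ * m⁻¹ * σ * g * (σ⁻¹ * m⁻¹ * σ)⁻¹) * σ⁻¹) by group, mul_apply', h1]
    rcases C.irr M F.normal F.ne W hWinv with e | e
    · have hwW : w ∈ W := by rintro _ ⟨g, hg', rfl⟩; exact hTfix g hg'
      rw [e, AddSubgroup.mem_bot] at hwW
      exact Subtype.ext hwW
    · exfalso
      refine F.ne' ((eq_bot_iff_forall _).2 fun g hg' => ?_)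
      have := C.eq_one_of_fix (h := σ * g * σ⁻¹) fun u =>
        (e.symm ▸ AddSubgroup.mem_top u : u ∈ W) _ ⟨g, hg', rfl⟩
      exact conj_eq_one_iff.1 this
  exact hy1 (DFunLike.ext _ _ fun x => by
    have := hzero x
    rw [add_eq_zero_iff_eq_neg] at this
    rw [this]
    exact Subtype.ext (neg_eq_of_add_eq_zero_left (hV (x : V))))

set_option maxHeartbeats 800000 in
/-- The minimal normal subgroup is simple. -/
theorem Ctx.T_normal (C : Ctx φ) (hV : ∀ v : V, v + v = 0) (F : Factors M T) : T.Normal := by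
  classical
  by_contra hTn
  have gen := @Ctx.fix_of_stab _ _ _ _ _ _ φ M T C hV F hTn
  obtain ⟨a, haT, ha⟩ := C.T_even hV F
  have haa : a * a = 1 := by rw [← pow_two, ← ha, pow_orderOf_eq_one]
  have ha1 : a ≠ 1 := fun h => by rw [h, orderOf_one] at ha; omega
  obtain ⟨x0, hx0⟩ := C.nontriv
  obtain ⟨u, hu0, hau⟩ := exists_fixed (φ := φ) hV haa hx0
  have hcent : ∀ t ∈ T, t ≠ 1 → ∀ h ∈ T, Commute h t → ∀ v, φ t v = v → φ h v = v := fun t ht ht1 h hh hc v hv =>
    gen (S := {t}) (Set.singleton_subset_iff.2 ht) rfl ht1 hh (fun w hw s hs => by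
      rw [Set.mem_singleton_iff.1 hs, ← mul_apply', ← hc.eq, mul_apply', hw t rfl])
      (fun s hs => by rw [Set.mem_singleton_iff.1 hs]; exact hv)
  -- two involutions fixing `u` are fused in its stabilizer, up to their centralizers
  have hfuse : ∀ x ∈ T, ∀ v, φ x v = v → orderOf x = 2 → ∀ g ∈ T, φ (g⁻¹ * x * g) v = v → φ g v = v := by
    intro x hx v hxv hx2 g hg hg'
    set x' := g⁻¹ * x * g with hx'
    have hx'T : x' ∈ T := mul_mem (mul_mem (inv_mem hg) hx) hg
    have hx'2 : orderOf x' = 2 := by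
      rw [hx', show g⁻¹ * x * g = MulAut.conj g⁻¹ x by simp, MulEquiv.orderOf_eq, hx2]
    have hxx : x * x = 1 := by rw [← pow_two, ← hx2, pow_orderOf_eq_one]
    have hx'x' : x' * x' = 1 := by rw [← pow_two, ← hx'2, pow_orderOf_eq_one]
    have hx1 : x ≠ 1 := fun h => by rw [h, orderOf_one] at hx2; omega
    have hx'1 : x' ≠ 1 := fun h => by rw [h, orderOf_one] at hx'2; omega
    by_cases hodd : Odd (orderOf (x * x'))
    · obtain ⟨d, hd, e⟩ := Cfsg.Agent.S0208.result x x' hx2 hx'2 hodd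
      have hdT : d ∈ T ⊓ stabV φ v := (closure_le _).2 (by
        rintro _ (rfl | rfl)
        exacts [⟨hx, hxv⟩, ⟨hx'T, hg'⟩]) hd
      have hgd : φ (g * d) v = v := by
        refine hcent x hx hx1 _ (mul_mem hg hdT.1) ?_ v hxv
        show g * d * x = x * (g * d)
        have h1 : d * x = x' * d := mul_inv_eq_iff_eq_mul.1 e
        rw [mul_assoc, h1, hx']
        group
      rw [mul_apply', (hdT.2 : φ d v = v)] at hgd
      exact hgd
    · obtain ⟨m, hm⟩ : 2 ∣ orderOf (x * x') := even_iff_two_dvd.1 (Nat.not_odd_iff_even.1 hodd)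
      set d := x * x' with hd
      set c := d ^ m with hc
      have hcc : c * c = 1 := by rw [hc, ← pow_add, ← two_mul, ← hm, pow_orderOf_eq_one]
      have hm0 : m ≠ 0 := fun h => by
        have := orderOf_pos d
        rw [hm, h, mul_zero] at this
        exact lt_irrefl _ this
      have hc1 : c ≠ 1 := pow_ne_one_of_lt_orderOf hm0 (by rw [hm]; omega)
      have hci : c⁻¹ = c := inv_eq_of_mul_eq_one_right hcc
      have hcT : c ∈ T := pow_mem (mul_mem hx hx'T) m
      have hxi : x⁻¹ = x := inv_eq_of_mul_eq_one_right hxx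
      have hx'i : x'⁻¹ = x' := inv_eq_of_mul_eq_one_right hx'x'
      have hinv : ∀ z, z * z = 1 → z * d * z = d⁻¹ → Commute c z := fun z hz e => by
        have hzi : z⁻¹ = z := inv_eq_of_mul_eq_one_right hz
        have h1 : z * c * z⁻¹ = c⁻¹ := by rw [hc, ← conj_pow, hzi, e, inv_pow]
        rw [hci] at h1
        exact (mul_inv_eq_iff_eq_mul.1 h1).symm
      have hcx : Commute c x := hinv x hxx (by rw [hd, mul_inv_rev, hx'i, hxi, ← mul_assoc, hxx, one_mul])
      have hcx' : Commute c x' := hinv x' hx'x' (by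
        have key : ∀ a b : H, b * b = 1 → b * (a * b) * b = b * a := fun a b hb => by
          simp [mul_assoc, hb]
        rw [hd, mul_inv_rev, hx'i, hxi]
        exact key x x' hx'x')
      -- both fix what `c` fixes and conversely
      refine gen (S := {x}) (Set.singleton_subset_iff.2 hx) rfl hx1 hg (fun w hw s hs => ?_)
        (fun s hs => by rw [Set.mem_singleton_iff.1 hs]; exact hxv)
      have hw' : φ x w = w := hw x rfl
      have h2 : φ c w = w := hcent x hx hx1 c hcT hcx w hw'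
      have h3 : φ x' w = w := hcent c hcT hc1 x' hx'T hcx'.symm w h2
      rw [Set.mem_singleton_iff.1 hs, ← mul_apply', show x * g = g * x' by rw [hx']; group, mul_apply', h3]
  set L := T ⊓ stabV φ u with hL
  set O := (fun g : H => φ g u) '' (T : Set H) with hO
  -- an involution outside the stabilizer is determined by the image of `u`
  have hinj : ∀ b ∈ T, ∀ b' ∈ T, orderOf b = 2 → orderOf b' = 2 → φ b u ≠ u → φ b u = φ b' u → b = b' := by
    intro b hb b' hb' hb2 hb'2 hbu e
    have hbb : b * b = 1 := by rw [← pow_two, ← hb2, pow_orderOf_eq_one]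
    have hb'b' : b' * b' = 1 := by rw [← pow_two, ← hb'2, pow_orderOf_eq_one]
    have hbi : b⁻¹ = b := inv_eq_of_mul_eq_one_right hbb
    have hb'i : b'⁻¹ = b' := inv_eq_of_mul_eq_one_right hb'b'
    set x := b * b' with hx
    have hxu : φ x u = u := by rw [hx, mul_apply', ← e, ← mul_apply', hbb, map_one]; rfl
    have hxinv : b * x * b⁻¹ = x⁻¹ := by rw [hx, mul_inv_rev, hb'i, hbi, ← mul_assoc, hbb, one_mul]
    by_contra hne
    have hx1 : x ≠ 1 := fun h => hne (by
      rw [hx, mul_eq_one_iff_eq_inv, hb'i] at h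
      exact h)
    apply hbu
    refine gen (S := {x}) (Set.singleton_subset_iff.2 (mul_mem hb hb')) rfl hx1 hb (fun w hw s hs => ?_)
      (fun s hs => by rw [Set.mem_singleton_iff.1 hs]; exact hxu)
    have hw' : φ x w = w := hw x rfl
    rw [Set.mem_singleton_iff.1 hs, ← mul_apply',
      show x * b = b * x⁻¹ by rw [← hxinv, ← mul_assoc, ← mul_assoc, hbb, one_mul, hbi], mul_apply',
      show φ x⁻¹ w = w from (stabV φ w).inv_mem hw']
  -- at most one involution in the stabilizer
  have huniq : ∀ c ∈ T, orderOf c = 2 → φ c u = u → c = a := by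
    intro c hc hc2 hcu
    by_contra hne
    have hsel : ∀ w : ↥(O \ {u}), ∃ g ∈ T, φ g u = w := fun w => w.2.1
    choose g hgT hgw using hsel
    let e : Bool → H := fun b => if b then c else a
    have he : ∀ b, e b ∈ T ∧ orderOf (e b) = 2 ∧ φ (e b) u = u := fun b => by
      cases b
      exacts [⟨haT, ha, hau⟩, ⟨hc, hc2, hcu⟩]
    let x : Bool × ↥(O \ {u}) → H := fun p => g p.2 * e p.1 * (g p.2)⁻¹
    have hxT : ∀ p, x p ∈ T := fun p => mul_mem (mul_mem (hgT _) (he _).1) (inv_mem (hgT _))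
    have hx2 : ∀ p, orderOf (x p) = 2 := fun p => by
      rw [show x p = MulAut.conj (g p.2) (e p.1) from rfl, MulEquiv.orderOf_eq, (he _).2.1]
    have hxfix : ∀ p, φ (x p) (p.2 : V) = p.2 := fun p => by
      show φ (g p.2 * e p.1 * (g p.2)⁻¹) _ = _
      rw [mul_apply', mul_apply', ← hgw, inv_apply', (he _).2.2]
    have hmove : ∀ p, φ (x p) u ≠ u := fun p h => p.2.2.2 (by
      have h1 := hfuse (x p) (hxT p) u h (hx2 p) (g p.2) (hgT _) (by
        show φ ((g p.2)⁻¹ * (g p.2 * e p.1 * (g p.2)⁻¹) * g p.2) u = u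
        rw [show (g p.2)⁻¹ * (g p.2 * e p.1 * (g p.2)⁻¹) * g p.2 = e p.1 by group]
        exact (he _).2.2)
      rw [hgw] at h1
      exact h1)
    let f : Bool × ↥(O \ {u}) → ↥(O \ {u}) := fun p => ⟨φ (x p) u, ⟨x p, hxT p, rfl⟩, hmove p⟩
    have hf : Function.Injective f := by
      intro p q h
      have hxq : x p = x q := hinj _ (hxT p) _ (hxT q) (hx2 p) (hx2 q) (hmove p) (congrArg Subtype.val h)
      have hw : p.2 = q.2 := by
        apply Subtype.ext
        rw [← hgw p.2, ← hgw q.2]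
        have h2 : φ ((g p.2)⁻¹ * g q.2) u = u := by
          refine hfuse (e p.1) (he _).1 u (he _).2.2 (he _).2.1 _ (mul_mem (inv_mem (hgT _)) (hgT _)) ?_
          rw [show ((g p.2)⁻¹ * g q.2)⁻¹ * e p.1 * ((g p.2)⁻¹ * g q.2) = (g q.2)⁻¹ * x p * g q.2 by
            simp only [x]; group, hxq,
            show (g q.2)⁻¹ * x q * g q.2 = e q.1 by simp only [x]; group]
          exact (he _).2.2
        have h3 := congrArg (φ (g p.2)) h2
        rw [← mul_apply', mul_inv_cancel_left] at h3
        exact h3.symm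
      refine Prod.ext ?_ hw
      simp only [x, hw] at hxq
      have he' : e p.1 = e q.1 := mul_left_cancel (mul_right_cancel hxq)
      revert he'
      cases p.1 <;> cases q.1 <;> simp [e, hne, Ne.symm hne]
    have hcard := Nat.card_le_card_of_injective f hf
    rw [Nat.card_prod, Nat.card_eq_fintype_card (α := Bool), Fintype.card_bool] at hcard
    -- the stabilizer is proper
    have hpos : 0 < Nat.card ↥(O \ {u}) := by
      rw [Nat.card_pos_iff]
      refine ⟨?_, inferInstance⟩
      by_contra hempty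
      rw [not_nonempty_iff, Set.isEmpty_coe_sort, Set.sdiff_eq_empty] at hempty
      refine F.ne (C.core F.normal hu0 fun m hm => ?_)
      suffices M ≤ stabV φ u from this hm
      refine F.le_of_conj _ fun k z hz => ?_
      obtain ⟨m, hm, em⟩ := C.same M F.normal F.ne u k
      have hk : φ (m⁻¹ * k) u = u := by rw [mul_apply', ← em, inv_apply']
      have hm' : k⁻¹ * m * k ∈ normalizer (T : Set H) := F.norm (by simpa using F.normal.conj_mem m hm k⁻¹)
      set z' := (k⁻¹ * m * k) * z * (k⁻¹ * m * k)⁻¹ with hz'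
      have hz'T : z' ∈ T := (mem_normalizer_iff.1 hm' z).1 hz
      show φ (k * z * k⁻¹) u = u
      rw [show k * z * k⁻¹ = (m⁻¹ * k) * z' * (m⁻¹ * k)⁻¹ by rw [hz']; group, mul_apply', mul_apply',
        show φ (m⁻¹ * k)⁻¹ u = u from (stabV φ u).inv_mem hk, show φ z' u = u from hempty ⟨z', hz'T, rfl⟩, hk]
    omega
  -- the involution is isolated
  have hiso : Cfsg.IsIsolated (⟨a, haT⟩ : T) := by
    intro g hg
    apply Subtype.ext
    show (g : H) * a * (g : H)⁻¹ = a
    set c := (g : H) * a * (g : H)⁻¹ with hc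
    have hcT : c ∈ T := mul_mem (mul_mem g.2 haT) (inv_mem g.2)
    have hc2 : orderOf c = 2 := by
      rw [hc, show (g : H) * a * (g : H)⁻¹ = MulAut.conj (g : H) a from rfl, MulEquiv.orderOf_eq, ha]
    exact huniq c hcT hc2 (hcent a haT ha1 c hcT (congrArg Subtype.val hg.eq).symm u hau)
  have hz := BrauerSuzuki.zStar ↥T ⟨a, haT⟩ (by rw [← orderOf_coe]; exact ha) hiso
  set N := (Cfsg.pPrimeCore 2 ↥T).map T.subtype with hN
  have hNn : T ≤ normalizer (N : Set H) := by
    have key : ∀ g ∈ T, ∀ z ∈ N, g * z * g⁻¹ ∈ N := by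
      rintro g hg _ ⟨z, hz, rfl⟩
      exact ⟨⟨g, hg⟩ * z * ⟨g, hg⟩⁻¹,
        (Cfsg.Agent.FittingCores.pPrimeCore_normal (G := ↥T) 2).conj_mem z hz _, rfl⟩
    exact fun g hg => mem_normalizer_iff.2 fun z => ⟨key g hg z, fun h => by
      simpa [mul_assoc] using key g⁻¹ (inv_mem hg) _ h⟩
  rcases F.simple N (map_subtype_le _) hNn with e | e
  · -- then `a` is central
    have hac : ∀ g ∈ T, Commute g a := fun g hg => by
      have h1 : ((⟨g, hg⟩ * ⟨a, haT⟩ * ⟨g, hg⟩⁻¹ * ⟨a, haT⟩⁻¹ : ↥T) : H) ∈ N := ⟨_, hz ⟨g, hg⟩, rfl⟩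
      rw [e, mem_bot] at h1
      change g * a * g⁻¹ * a⁻¹ = 1 at h1
      rw [mul_inv_eq_one] at h1
      exact mul_inv_eq_iff_eq_mul.1 h1
    have hZn : T ≤ normalizer ((zpowers a : Subgroup H) : Set H) := fun g hg => by
      refine mem_normalizer_iff.2 fun z => ?_
      have hc : ∀ w ∈ zpowers a, g * w * g⁻¹ = w := fun w hw => by
        obtain ⟨k, rfl⟩ := mem_zpowers_iff.1 hw
        rw [((hac g hg).zpow_right k).eq, mul_inv_cancel_right]
      refine ⟨fun hz => (hc z hz).symm ▸ hz, fun hz => ?_⟩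
      have := (hc _ hz).symm
      rw [mul_left_inj, mul_right_inj] at this
      exact this ▸ hz
    rcases F.simple (zpowers a) (zpowers_le.2 haT) hZn with e' | e'
    · exact ha1 (zpowers_eq_bot.1 e')
    · refine C.T_noncomm hV F fun p hp q hq => ?_
      rw [← e'] at hp hq
      obtain ⟨i, rfl⟩ := mem_zpowers_iff.1 hp
      obtain ⟨j, rfl⟩ := mem_zpowers_iff.1 hq
      exact (Commute.refl a).zpow_zpow i j
  · have hodd : (Nat.card ↥(Cfsg.pPrimeCore 2 ↥T)).Coprime 2 :=
      Cfsg.Agent.FittingCores.pPrimeCore_coprime (G := ↥T) 2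
    have hcardT : Nat.card ↥(Cfsg.pPrimeCore 2 ↥T) = Nat.card T := by
      have := congrArg (fun K : Subgroup H => Nat.card K) e
      simp only [hN, card_map_of_injective T.subtype_injective] at this
      exact this
    have h2 : 2 ∣ Nat.card T := ha ▸ Subgroup.orderOf_dvd_natCard T haT
    rw [hcardT] at hodd
    exact Nat.prime_two.coprime_iff_not_dvd.1 hodd.symm h2

/-- An almost simple group. -/
theorem Ctx.almost_simple (C : Ctx φ) (hV : ∀ v : V, v + v = 0) :
    ∃ T : Subgroup H, T.Normal ∧ IsSimpleGroup T ∧ ¬ IsMulCommutative T ∧ centralizer (T : Set H) = ⊥ := by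
  haveI : Nontrivial H := by
    by_contra h
    rw [not_nontrivial_iff_subsingleton] at h
    exact C.insol inferInstance
  obtain ⟨M, T, F⟩ := exists_factors (H := H)
  have hTn := C.T_normal hV F
  obtain rfl : T = M := (F.min T F.le hTn).resolve_left F.ne'
  refine ⟨T, hTn, ?_, fun hc => C.T_noncomm hV F fun a ha b hb =>
    congrArg Subtype.val (hc.is_comm.comm (⟨a, ha⟩ : T) ⟨b, hb⟩), ?_⟩
  · haveI : Nontrivial T := (nontrivial_iff_ne_bot T).2 F.ne'
    refine ⟨fun K hK => ?_⟩
    have hKn : T ≤ normalizer ((K.map T.subtype : Subgroup H) : Set H) := fun g hg => by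
      have key : ∀ g ∈ T, ∀ z ∈ K.map T.subtype, g * z * g⁻¹ ∈ K.map T.subtype := by
        rintro g hg _ ⟨z, hz, rfl⟩
        exact ⟨⟨g, hg⟩ * z * ⟨g, hg⟩⁻¹, hK.conj_mem z hz _, rfl⟩
      exact mem_normalizer_iff.2 fun z => ⟨key g hg z, fun h => by
        simpa [mul_assoc] using key g⁻¹ (inv_mem hg) _ h⟩
    rcases F.simple _ (map_subtype_le K) hKn with e | e
    · exact Or.inl ((K.map_eq_bot_iff_of_injective T.subtype_injective).1 e)
    · exact Or.inr (map_injective T.subtype_injective (e.trans (by rw [← MonoidHom.range_eq_map, range_subtype])))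
  · by_contra hC1
    have hCn : (centralizer (T : Set H)).Normal := normal_centralizer
    obtain ⟨t, htT, ht⟩ := C.T_even hV F
    obtain ⟨x0, hx0⟩ := C.nontriv
    obtain ⟨v, hv, htv⟩ := exists_fixed (φ := φ) hV (by rw [← pow_two, ← ht, pow_orderOf_eq_one]) hx0
    have := C.eq_one_of_comm hCn hC1 (fun m hm => (mem_centralizer_iff.1 hm t htT).symm) hv htv
    rw [this, orderOf_one] at ht
    omega

end Cfsg.Agent.ExtPrimAffine
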